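import Groth.Agent.L28.Strata.Et
import Groth.Agent.L28.LocConstAb.Serre

/-!
Constructible abelian sheaves: kernels, cokernels and extensions.
-/

set_option autoImplicit false

universe u

open CategoryTheory CategoryTheory.Limits AlgebraicGeometry Opposite

set_option backward.isDefEq.respectTransparency.types false

namespace Groth.L28.Strata

variable {X : Scheme.{u}}

theorem isConstructible_kernel_cokernel {F G : EtCoh.Ab X} (φ : F ⟶ G) (hF : EtPBC.IsConstructible F)
    (hG : EtPBC.IsConstructible G) :
    EtPBC.IsConstructible (kernel φ) ∧ EtPBC.IsConstructible (cokernel φ) := by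
  rw [isConstructible_iff] at hF hG
  have h := Loc.and (stable_lcPred F) (stable_lcPred G) hF hG
  constructor
  · rw [isConstructible_iff]
    refine h.mono fun T g hg => ?_
    haveI := Groth.L27.EtSite.preservesFiniteLimits_pull g
    exact isFLC_of_iso (PreservesKernel.iso (EtCoh.pull g) φ).symm
      (LocConstAb.isFiniteLocallyConstant_kernel_cokernel _ hg.1 hg.2).1
  · rw [isConstructible_iff]
    refine h.mono fun T g hg => ?_
    exact isFLC_of_iso (PreservesCokernel.iso (EtCoh.pull g) φ).symm
      (LocConstAb.isFiniteLocallyConstant_kernel_cokernel _ hg.1 hg.2).2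

theorem isConstructible_extension {S : ShortComplex (EtCoh.Ab X)} (hS : S.ShortExact)
    (h1 : EtPBC.IsConstructible S.X₁) (h3 : EtPBC.IsConstructible S.X₃) : EtPBC.IsConstructible S.X₂ := by
  rw [isConstructible_iff] at h1 h3
  have h := Loc.and (stable_lcPred S.X₁) (stable_lcPred S.X₃) h1 h3
  rw [isConstructible_iff]
  refine h.mono fun T g hg => ?_
  haveI := Groth.L27.EtSite.preservesFiniteLimits_pull g
  haveI := LocConstAb.isClosedUnderExtensions (X := T)
  exact ObjectProperty.prop_X₂_of_shortExact (fun F : EtCoh.Ab T => EtCoh.IsFiniteLocallyConstant F)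
    (hS.map_of_exact (EtCoh.pull g)) hg.1 hg.2

end Groth.L28.Strata
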