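import Groth.Agent.L28.Strata.Topo

/-!
Finite stratifications: restriction, gluing, refinement.
-/

set_option autoImplicit false

universe u

open CategoryTheory CategoryTheory.Limits AlgebraicGeometry TopologicalSpace Topology

namespace Groth.L28.Strata

variable {X : Scheme.{u}} {P Q : SPred X}

/-- a predicate restricted along a morphism -/
abbrev res {X' : Scheme.{u}} (h : X' ⟶ X) (P : SPred X) : SPred X' := fun _ g => P (g ≫ h)

theorem Stable.res (hP : Stable P) {X' : Scheme.{u}} (h : X' ⟶ X) : Stable (res h P) := fun T T' k g hg => by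
  show P ((k ≫ g) ≫ h)
  rw [Category.assoc]
  exact hP k (g ≫ h) hg

theorem Stable.and (hP : Stable P) (hQ : Stable Q) : Stable (fun _ g => P g ∧ Q g : SPred X) :=
  fun _ _ k g hg => ⟨hP k g hg.1, hQ k g hg.2⟩

theorem Strat.mono (h : Strat X P) (hPQ : ∀ ⦃T : Scheme.{u}⦄ (g : T ⟶ X), P g → Q g) : Strat X Q := by
  obtain ⟨n, T, g, h1, h2, h3, h4, h5⟩ := h
  exact ⟨n, T, g, h1, h2, h3, h4, fun i => hPQ _ (h5 i)⟩

theorem range_pullback_snd_comp {X' T : Scheme.{u}} (h : X' ⟶ X) (g : T ⟶ X) :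
    Set.range (pullback.snd g h) = h ⁻¹' Set.range g := Scheme.Pullback.range_snd _ _

/-- stratifications pull back -/
theorem Strat.pullback (hP : Stable P) (hs : Strat X P) {X' : Scheme.{u}} (h : X' ⟶ X) :
    Strat X' (Strata.res h P) := by
  obtain ⟨n, T, g, h1, h2, h3, h4, h5⟩ := hs
  refine ⟨n, fun i => Limits.pullback (g i) h, fun i => pullback.snd (g i) h,
    fun i => haveI := h1 i; inferInstance, fun i => ?_, fun i j hij => ?_, ?_, fun i => ?_⟩
  · rw [range_pullback_snd_comp]; exact h.isConstructible_preimage (h2 i)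
  · show Disjoint (Set.range (pullback.snd (g i) h)) (Set.range (pullback.snd (g j) h))
    rw [range_pullback_snd_comp, range_pullback_snd_comp]
    exact (h3 hij).preimage _
  · simp only [range_pullback_snd_comp]
    rw [← Set.preimage_iUnion, h4, Set.preimage_univ]
  · show P (pullback.snd (g i) h ≫ h)
    rw [← pullback.condition]; exact hP _ _ (h5 i)

/-- finitely many stratified quasi-compact opens give a stratification -/
theorem strat_of_cover [QuasiSeparatedSpace X] (hP : Stable P) {κ : Type*} [Finite κ]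
    (U : κ → X.Opens) (hU : ∀ k, IsCompact (U k : Set X)) (hcov : ∀ x, ∃ k, x ∈ U k)
    (hs : ∀ k, Strat (U k) (res (U k).ι P)) : Strat X P := by
  choose n T g h1 h2 h3 h4 h5 using hs
  refine strat_of_pieces hP (ι := Σ k, Fin (n k)) (fun i => g i.1 i.2 ≫ (U i.1).ι)
    (fun i => haveI := h1 i.1 i.2; inferInstance) (fun i => ?_) ?_ (fun i => h5 i.1 i.2)
  · rw [Scheme.Hom.comp_base, TopCat.coe_comp, Set.range_comp]
    exact isConstructible_image_ι _ (hU i.1) (h2 i.1 i.2)
  · refine Set.eq_univ_of_forall fun x => ?_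
    obtain ⟨k, hk⟩ := hcov x
    obtain ⟨i, t, ht⟩ := Set.mem_iUnion.1 ((h4 k).symm ▸ Set.mem_univ (⟨x, hk⟩ : U k) :
      (⟨x, hk⟩ : U k) ∈ ⋃ i, Set.range (g k i))
    refine Set.mem_iUnion.2 ⟨⟨k, i⟩, t, ?_⟩
    show (U k).ι (g k i t) = x
    rw [ht]
    rfl

theorem exists_affine {x : X} {s : Set X} (hx : x ∈ s) (hs : IsOpen s) :
    ∃ V : X.Opens, IsAffineOpen V ∧ x ∈ V ∧ (V : Set X) ⊆ s := by
  obtain ⟨_, ⟨V, hV, rfl⟩, hxV, hVs⟩ := X.isBasis_affineOpens.exists_subset_of_mem_open hx hs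
  exact ⟨V, hV, hxV, hVs⟩

/-- every affine open is stratified -/
def Loc (X : Scheme.{u}) (P : SPred X) : Prop := ∀ U : X.Opens, IsAffineOpen U → Strat U (res U.ι P)

theorem Loc.mono (h : Loc X P) (hPQ : ∀ ⦃T : Scheme.{u}⦄ (g : T ⟶ X), P g → Q g) : Loc X Q :=
  fun U hU => (h U hU).mono fun _ _ hg => hPQ _ hg

/-- a quasi-compact open covered by affines on which a stratification exists is stratified -/
theorem strat_of_affines (hP : Stable P) (U : X.Opens) (hUc : IsCompact (U : Set X))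
    (hUs : IsQuasiSeparated (U : Set X))
    (h : ∀ x ∈ U, ∃ V : X.Opens, IsAffineOpen V ∧ V ≤ U ∧ x ∈ V ∧ Strat V (res V.ι P)) :
    Strat U (res U.ι P) := by
  choose V hVa hVU hxV hV using h
  haveI : QuasiSeparatedSpace U := (isQuasiSeparated_iff_quasiSeparatedSpace _ U.2).1 hUs
  obtain ⟨t, ht⟩ := hUc.elim_finite_subcover (fun x : U => (V x.1 x.2 : Set X)) (fun x => (V x.1 x.2).2)
    (fun x hx => Set.mem_iUnion.2 ⟨⟨x, hx⟩, hxV x hx⟩)
  refine strat_of_cover (hP.res U.ι) (κ := t) (fun x => U.ι ⁻¹ᵁ V x.1.1 x.1.2) (fun x => ?_) (fun y => ?_) (fun x => ?_)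
  · show IsCompact (U.ι ⁻¹' (V x.1.1 x.1.2 : Set X))
    exact U.ι.isOpenEmbedding.isInducing.isCompact_preimage' (hVa _ _).isCompact
      (by rw [Scheme.Opens.range_ι]; exact hVU _ _)
  · obtain ⟨x, hx, hy⟩ := Set.mem_iUnion₂.1 (ht y.2)
    exact ⟨⟨x, hx⟩, hy⟩
  · let W := U.ι ⁻¹ᵁ V x.1.1 x.1.2
    let k : (W : Scheme.{u}) ⟶ V x.1.1 x.1.2 :=
      IsOpenImmersion.lift (V x.1.1 x.1.2).ι (W.ι ≫ U.ι) (by
        rw [Scheme.Opens.range_ι, Scheme.Hom.comp_base, TopCat.coe_comp, Set.range_comp, Scheme.Opens.range_ι]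
        exact Set.image_preimage_subset _ _)
    refine ((hV x.1.1 x.1.2).pullback (hP.res _) k).mono fun T g hg => ?_
    show P ((g ≫ W.ι) ≫ U.ι)
    have : k ≫ (V x.1.1 x.1.2).ι = W.ι ≫ U.ι := IsOpenImmersion.lift_fac _ _ _
    rw [Category.assoc, ← this, ← Category.assoc]
    exact hg

theorem isQuasiSeparated_affine {U : X.Opens} (hU : IsAffineOpen U) : IsQuasiSeparated (U : Set X) := hU.isQuasiSeparated

/-- quasi-compact quasi-separated schemes: local and global stratifications agree -/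
theorem loc_iff_strat [CompactSpace X] [QuasiSeparatedSpace X] (hP : Stable P) : Loc X P ↔ Strat X P := by
  refine ⟨fun h => ?_, fun h U _ => h.pullback hP U.ι⟩
  obtain ⟨t, ht⟩ := (CompactSpace.isCompact_univ (X := X)).elim_finite_subcover
    (fun U : {U : X.Opens // IsAffineOpen U} => ((U.1 : X.Opens) : Set X)) (fun U => U.1.2) (fun x _ => by
      obtain ⟨_, ⟨V, hV, rfl⟩, hxV, -⟩ := X.isBasis_affineOpens.exists_subset_of_mem_open (Set.mem_univ x) isOpen_univ
      exact Set.mem_iUnion.2 ⟨⟨V, hV⟩, hxV⟩)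
  exact strat_of_cover hP (κ := t) (fun U => U.1.1) (fun U => U.1.2.isCompact)
    (fun x => let ⟨U, hU, hx⟩ := Set.mem_iUnion₂.1 (ht (Set.mem_univ x)); ⟨⟨U, hU⟩, hx⟩) (fun U => h _ U.1.2)

/-- local stratifications pull back -/
theorem Loc.pullback (hP : Stable P) (hs : Loc X P) {X' : Scheme.{u}} (h : X' ⟶ X) : Loc X' (Strata.res h P) := by
  intro U hU
  refine strat_of_affines (hP.res h) U hU.isCompact hU.isQuasiSeparated fun x hx => ?_
  obtain ⟨W, hW, hxW, -⟩ := exists_affine (Set.mem_univ (h x)) isOpen_univ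
  obtain ⟨V, hV, hxV, hVsub⟩ := exists_affine
    (⟨hx, hxW⟩ : x ∈ (U : Set X') ∩ h ⁻¹' W) (U.2.inter (W.2.preimage h.continuous))
  refine ⟨V, hV, fun y hy => (hVsub hy).1, hxV, ?_⟩
  let k : (V : Scheme.{u}) ⟶ W := IsOpenImmersion.lift W.ι (V.ι ≫ h) (by
    rw [Scheme.Opens.range_ι, Scheme.Hom.comp_base, TopCat.coe_comp, Set.range_comp, Scheme.Opens.range_ι]
    rintro _ ⟨y, hy, rfl⟩
    exact (hVsub hy).2)
  refine ((hs W hW).pullback (hP.res _) k).mono fun T g hg => ?_
  show P ((g ≫ V.ι) ≫ h)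
  have : k ≫ W.ι = V.ι ≫ h := IsOpenImmersion.lift_fac _ _ _
  rw [Category.assoc, ← this, ← Category.assoc]
  exact hg

/-- stratifications are local for open coverings -/
theorem loc_of_cover (hP : Stable P) {ι : Type*} (U : ι → X.Opens) (hcov : ⨆ i, U i = ⊤)
    (hs : ∀ i, Loc (U i) (Strata.res (U i).ι P)) : Loc X P := by
  intro V hV
  refine strat_of_affines hP V hV.isCompact hV.isQuasiSeparated fun x hx => ?_
  obtain ⟨i, hi⟩ := Opens.mem_iSup.1 (hcov.symm ▸ Opens.mem_top x : x ∈ ⨆ i, U i)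
  obtain ⟨W, hW, hxW, hWsub⟩ := exists_affine
    (⟨hx, hi⟩ : x ∈ (V : Set X) ∩ U i) (V.2.inter (U i).2)
  refine ⟨W, hW, fun y hy => (hWsub hy).1, hxW, ?_⟩
  let k : (W : Scheme.{u}) ⟶ U i := IsOpenImmersion.lift (U i).ι W.ι (by
    rw [Scheme.Opens.range_ι, Scheme.Opens.range_ι]; exact fun y hy => (hWsub hy).2)
  haveI : IsAffine W := hW
  have h1 := ((hs i).pullback (hP.res _) k) ⊤ (isAffineOpen_top _)
  refine ((loc_iff_strat ((hP.res _).res k)).1 ((hs i).pullback (hP.res _) k)).mono fun T g hg => ?_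
  have : k ≫ (U i).ι = W.ι := IsOpenImmersion.lift_fac _ _ _
  show P (g ≫ W.ι)
  rw [← this, ← Category.assoc]
  exact hg

/-- constructible pieces with stratifications give a stratification -/
theorem strat_of_strata [CompactSpace X] [QuasiSeparatedSpace X] (hP : Stable P) {ι : Type*}
    (T : ι → Scheme.{u}) (g : ∀ i, T i ⟶ X) (hg : ∀ i, IsImmersion (g i))
    (hc : ∀ i, IsConstructible (Set.range (g i))) (hcov : (⋃ i, Set.range (g i)) = Set.univ)
    (hs : ∀ i, Loc (T i) (Strata.res (g i) P)) (S : Finset ι) (hS : ∀ x, ∃ i ∈ S, x ∈ Set.range (g i)) :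
    Strat X P := by
  have h : ∀ i : S, Strat (T i) (Strata.res (g i) P) := fun i => by
    haveI := hg i
    haveI : CompactSpace (T i) := ⟨(g i).isEmbedding.isCompact_iff.2 (by
      rw [Set.image_univ]; exact isCompact_of_isConstructible (hc i))⟩
    haveI : QuasiSeparatedSpace (T i) := quasiSeparatedSpace_of_quasiSeparated (g i)
    exact (loc_iff_strat (hP.res _)).1 (hs i)
  choose n T' g' h1 h2 h3 h4 h5 using h
  refine strat_of_pieces hP (ι := Σ i : S, Fin (n i)) (fun k => g' k.1 k.2 ≫ g k.1)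
    (fun k => haveI := h1 k.1 k.2; haveI := hg k.1; inferInstance) (fun k => ?_) ?_ (fun k => h5 k.1 k.2)
  · haveI := hg k.1
    rw [Scheme.Hom.comp_base, TopCat.coe_comp, Set.range_comp]
    exact isConstructible_image _ (hc k.1) (h2 k.1 k.2)
  · refine Set.eq_univ_of_forall fun x => ?_
    obtain ⟨i, hi, a, rfl⟩ := hS x
    obtain ⟨j, b, hb⟩ := Set.mem_iUnion.1 ((h4 ⟨i, hi⟩).symm ▸ Set.mem_univ a : a ∈ ⋃ j, Set.range (g' ⟨i, hi⟩ j))
    refine Set.mem_iUnion.2 ⟨⟨⟨i, hi⟩, j⟩, b, ?_⟩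
    show g i (g' ⟨i, hi⟩ j b) = g i a
    rw [hb]

/-- two stratifications have a common refinement -/
theorem Strat.and (hP : Stable P) (hQ : Stable Q) (h : Strat X P) (h' : Strat X Q) :
    Strat X (fun _ g => P g ∧ Q g) := by
  obtain ⟨n, T, g, h1, h2, -, h4, h5⟩ := h
  obtain ⟨m, T', g', h1', h2', -, h4', h5'⟩ := h'
  have hr : ∀ i j, Set.range (pullback.fst (g i) (g' j) ≫ g i) = Set.range (g i) ∩ Set.range (g' j) := fun i j => by
    rw [Scheme.Hom.comp_base, TopCat.coe_comp, Set.range_comp, Scheme.Pullback.range_fst,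
      Set.image_preimage_eq_range_inter]
  refine strat_of_pieces (hP.and hQ) (ι := Fin n × Fin m) (fun k => pullback.fst (g k.1) (g' k.2) ≫ g k.1)
    (fun k => haveI := h1 k.1; haveI := h1' k.2; inferInstance) (fun k => ?_) ?_
    (fun k => ⟨hP _ _ (h5 k.1), pullback.condition (f := g k.1) (g := g' k.2) ▸ hQ _ _ (h5' k.2)⟩)
  · rw [hr]; exact (h2 k.1).inter (h2' k.2)
  · refine Set.eq_univ_of_forall fun x => ?_
    obtain ⟨i, hi⟩ := Set.mem_iUnion.1 (h4.symm ▸ Set.mem_univ x : x ∈ ⋃ i, Set.range (g i))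
    obtain ⟨j, hj⟩ := Set.mem_iUnion.1 (h4'.symm ▸ Set.mem_univ x : x ∈ ⋃ j, Set.range (g' j))
    exact Set.mem_iUnion.2 ⟨⟨i, j⟩, (hr i j).symm ▸ ⟨hi, hj⟩⟩

theorem Loc.and (hP : Stable P) (hQ : Stable Q) (h : Loc X P) (h' : Loc X Q) : Loc X (fun _ g => P g ∧ Q g) :=
  fun U hU => Strat.and (hP.res U.ι) (hQ.res U.ι) (h U hU) (h' U hU)

/-- the shape of stratifications of opens used in definitions of constructibility -/
def Adapted (P : SPred X) (S : Set X) : Prop :=
  ∃ (n : ℕ) (T : Fin n → Scheme.{u}) (g : ∀ i, T i ⟶ X),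
    (∀ i, IsImmersion (g i)) ∧
    (∀ i, IsConstructible ((Subtype.val : S → X) ⁻¹' Set.range (g i))) ∧
    Pairwise (fun i j => Disjoint (Set.range (g i)) (Set.range (g j))) ∧
    (⋃ i, Set.range (g i)) = S ∧ ∀ i, P (g i)

theorem adapted_iff (U : X.Opens) : Adapted P (U : Set X) ↔ Strat U (res U.ι P) := by
  constructor
  · rintro ⟨n, T, g, h1, h2, h3, h4, h5⟩
    have hsub : ∀ i, Set.range (g i) ⊆ Set.range U.ι := fun i => by
      rw [Scheme.Opens.range_ι]; exact h4 ▸ Set.subset_iUnion (fun i => Set.range (g i)) i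
    have hr : ∀ i, Set.range (IsOpenImmersion.lift U.ι (g i) (hsub i)) = U.ι ⁻¹' Set.range (g i) := fun i => by
      conv_rhs => rw [← IsOpenImmersion.lift_fac U.ι (g i) (hsub i), Scheme.Hom.comp_base, TopCat.coe_comp,
        Set.range_comp, Set.preimage_image_eq _ U.ι.isOpenEmbedding.injective]
    refine ⟨n, T, fun i => IsOpenImmersion.lift U.ι (g i) (hsub i),
      fun i => ?_, fun i => by rw [hr]; exact h2 i, fun i j hij => ?_, ?_, fun i => ?_⟩
    · haveI := h1 i
      haveI : IsImmersion (IsOpenImmersion.lift U.ι (g i) (hsub i) ≫ U.ι) := by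
        rw [IsOpenImmersion.lift_fac]; infer_instance
      exact IsImmersion.of_comp _ U.ι
    · show Disjoint (Set.range _) (Set.range _)
      rw [hr, hr]; exact (h3 hij).preimage _
    · simp only [hr]
      rw [← Set.preimage_iUnion, h4]
      exact Set.eq_univ_of_forall fun y => y.2
    · show P (IsOpenImmersion.lift U.ι (g i) (hsub i) ≫ U.ι)
      rw [IsOpenImmersion.lift_fac]; exact h5 i
  · rintro ⟨n, T, g, h1, h2, h3, h4, h5⟩
    have hr : ∀ i, Set.range (g i ≫ U.ι) = U.ι '' Set.range (g i) := fun i => by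
      rw [Scheme.Hom.comp_base, TopCat.coe_comp, Set.range_comp]
    refine ⟨n, T, fun i => g i ≫ U.ι, fun i => haveI := h1 i; inferInstance, fun i => ?_, fun i j hij => ?_, ?_, h5⟩
    · rw [hr]
      show IsConstructible (U.ι ⁻¹' (U.ι '' Set.range (g i)))
      rw [Set.preimage_image_eq _ U.ι.isOpenEmbedding.injective]
      exact h2 i
    · show Disjoint (Set.range _) (Set.range _)
      rw [hr, hr]; exact Set.disjoint_image_of_injective U.ι.isOpenEmbedding.injective (h3 hij)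
    · simp only [hr]
      rw [← Set.image_iUnion, h4, Set.image_univ, Scheme.Opens.range_ι]

end Groth.L28.Strata
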