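import Groth.Agent.L28.Strata.Basic
import Groth.Agent.L28.LocConst.PullInst
import Groth.Prelude.Def_EtCore
import Groth.Prelude.Def_PBC

/-!
Constructible sheaves as stratified sheaves.
-/

set_option autoImplicit false

universe u

open CategoryTheory CategoryTheory.Limits AlgebraicGeometry Opposite

set_option backward.isDefEq.respectTransparency.types false

namespace Groth.L28.Strata

variable {X Y Z : Scheme.{u}}

theorem isFLC_of_iso {F G : EtCoh.Ab X} (e : F ≅ G) (h : EtCoh.IsFiniteLocallyConstant F) :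
    EtCoh.IsFiniteLocallyConstant G := by
  obtain ⟨ι, U, hU, h⟩ := h
  refine ⟨ι, U, hU, fun i => ?_⟩
  obtain ⟨M, _, hM, ⟨α⟩⟩ := h i
  exact ⟨M, inferInstance, hM, ⟨((X.smallEtaleTopology.overPullback AddCommGrpCat.{u + 1} (U i)).mapIso e).symm ≪≫ α⟩⟩

/-- the stratum condition for an abelian sheaf -/
abbrev lcPred (F : EtCoh.Ab X) : SPred X :=
  fun _ g => EtCoh.IsFiniteLocallyConstant ((EtCoh.pull g).obj F)

theorem lcPred_comp {T : Scheme.{u}} (F : EtCoh.Ab Y) (f : X ⟶ Y) (g : T ⟶ X) :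
    lcPred ((EtCoh.pull f).obj F) g ↔ lcPred F (g ≫ f) :=
  ⟨fun h => isFLC_of_iso ((EtCore.pullComp g f).app F).symm h,
    fun h => isFLC_of_iso ((EtCore.pullComp g f).app F) h⟩

theorem stable_lcPred (F : EtCoh.Ab X) : Stable (lcPred F) := fun _ _ h g hg =>
  (lcPred_comp F g h).1 (LocConst.isFiniteLocallyConstant_pull h _ hg)

theorem adaptedStrata_iff (F : EtCoh.Ab X) (S : Set X) : EtPBC.AdaptedStrata F S ↔ Adapted (lcPred F) S := by
  constructor
  · rintro ⟨n, T, g, h1, h2, h3, h4, h5⟩; exact ⟨n, T, g, h1, h2, h3, h4, fun i => h5 i⟩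
  · rintro ⟨n, T, g, h1, h2, h3, h4, h5⟩; exact ⟨n, T, g, h1, h2, h3, h4, fun i => fun {_} => h5 i⟩

theorem isConstructible_iff (F : EtCoh.Ab X) : EtPBC.IsConstructible F ↔ Loc X (lcPred F) :=
  forall₂_congr fun U _ => (adaptedStrata_iff F _).trans (adapted_iff U)

theorem adaptedStrata_univ_iff (F : EtCoh.Ab X) : EtPBC.AdaptedStrata F Set.univ ↔ Strat X (lcPred F) := by
  refine (adaptedStrata_iff F _).trans ⟨?_, ?_⟩
  · rintro ⟨n, T, g, h1, h2, h3, h4, h5⟩
    refine ⟨n, T, g, h1, fun i => ?_, h3, h4, h5⟩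
    have h := (h2 i).preimage_of_isOpenEmbedding (f := (fun x => ⟨x, trivial⟩ : X → (Set.univ : Set X)))
      (Homeomorph.Set.univ X).symm.isOpenEmbedding
    exact h
  · rintro ⟨n, T, g, h1, h2, h3, h4, h5⟩
    exact ⟨n, T, g, h1, fun i => (h2 i).preimage_of_isOpenEmbedding (Homeomorph.Set.univ X).isOpenEmbedding, h3, h4, h5⟩

end Groth.L28.Strata
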