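import Groth.Agent.L28.Strata.Basic
import Groth.Agent.L28.LocConst.PullInst
import Groth.Agent.L28.LocConst.Serre
import Groth.Agent.L28.Pts.Linear
import Mathlib.CategoryTheory.Abelian.Exact

/-!
Constructible sheaves of modules as stratified sheaves; exactness of inverse images.
-/

set_option autoImplicit false

universe u

open CategoryTheory CategoryTheory.Limits AlgebraicGeometry Opposite

set_option backward.isDefEq.respectTransparency.types false

namespace Groth.L28.Strata

variable {Λ : Type (u + 1)} [CommRing Λ] {X Y Z : Scheme.{u}}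

set_option backward.isDefEq.respectTransparency.types false in
/-- composition of direct images of sheaves of modules -/
noncomputable def pushCompMod (f : X ⟶ Y) (g : Z ⟶ X) :
    EtModW.push Λ g ⋙ EtModW.push Λ f ≅ EtModW.push Λ (g ≫ f) :=
  Functor.sheafPushforwardContinuousComp' (F := EtCoh.bc f) (G := EtCoh.bc g) (FG := EtCoh.bc (g ≫ f))
    ((MorphismProperty.Over.pullbackComp (P := EtCoh.etaleMP) (Q := ⊤) g f).symm :
      EtCoh.bc f ⋙ EtCoh.bc g ≅ EtCoh.bc (g ≫ f))
    (ModuleCat.{u + 1} Λ) Y.smallEtaleTopology X.smallEtaleTopology Z.smallEtaleTopology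

/-- the adjunction between inverse and direct image of sheaves of modules -/
noncomputable abbrev pullPushAdjMod (f : X ⟶ Y) : EtModW.pull Λ f ⊣ EtModW.push Λ f :=
  (EtCoh.bc f).sheafAdjunctionContinuous (ModuleCat.{u + 1} Λ) Y.smallEtaleTopology X.smallEtaleTopology

/-- composition of inverse images of sheaves of modules -/
noncomputable def pullCompMod (g : Z ⟶ X) (f : X ⟶ Y) :
    EtModW.pull Λ (g ≫ f) ≅ EtModW.pull Λ f ⋙ EtModW.pull Λ g :=
  Adjunction.leftAdjointUniq (pullPushAdjMod (g ≫ f))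
    (((pullPushAdjMod f).comp (pullPushAdjMod g)).ofNatIsoRight (pushCompMod f g))

theorem mono_pullMod_map (f : X ⟶ Y) {F G : EtModW.Mod Λ Y} (φ : F ⟶ G) [Mono φ] :
    Mono ((EtModW.pull Λ f).map φ) := by
  haveI : AB5OfSize.{u, u} (ModuleCat.{u + 1} Λ) := AB5OfSize_shrink.{u, u, u + 1, u + 1} _
  have : Sheaf.IsLocallyInjective ((EtModW.pull Λ f).map φ) := by
    refine Groth.L27.EtSite.isLocallyInjective_of_stalks _ fun Ω _ _ ξ => ?_
    have h : Mono ((EtModW.pull Λ f ⋙ EtModW.stalk Λ ξ).map φ) :=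
      ((MorphismProperty.monomorphisms _).arrow_mk_iso_iff
        (((Functor.mapArrowFunctor _ _).mapIso (EtModStalk.stalkPullModIso f ξ)).app (Arrow.mk φ))).2
        (show Mono ((EtModW.stalk Λ (ξ ≫ f)).map φ) from inferInstance)
    exact (ModuleCat.mono_iff_injective _).1 h
  exact Sheaf.mono_of_isLocallyInjective _

instance preservesFiniteColimits_pullMod (f : X ⟶ Y) : PreservesFiniteColimits (EtModW.pull Λ f) :=
  have : PreservesColimitsOfSize.{0, 0} (EtModW.pull Λ f) := (pullPushAdjMod f).leftAdjoint_preservesColimits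
  PreservesColimitsOfSize.preservesFiniteColimits _

theorem preservesFiniteLimits_pullMod (f : X ⟶ Y) : PreservesFiniteLimits (EtModW.pull Λ f) := by
  have : (EtModW.pull Λ f).PreservesMonomorphisms := ⟨fun φ _ => mono_pullMod_map f φ⟩
  have : (EtModW.pull Λ f).PreservesHomology :=
    Functor.preservesHomology_of_preservesMonos_and_cokernels _
  exact (EtModW.pull Λ f).preservesFiniteLimits_of_preservesHomology

theorem isFT_of_iso {F G : EtModW.Mod Λ X} (e : F ≅ G) (h : EtModW.IsFTLocConst Λ F) : EtModW.IsFTLocConst Λ G := by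
  obtain ⟨ι, U, hU, h⟩ := h
  refine ⟨ι, U, hU, fun i => ?_⟩
  obtain ⟨M, _, _, hM, ⟨α⟩⟩ := h i
  exact ⟨M, inferInstance, inferInstance, hM,
    ⟨((X.smallEtaleTopology.overPullback (ModuleCat.{u + 1} Λ) (U i)).mapIso e).symm ≪≫ α⟩⟩

/-- the stratum condition for a sheaf of modules -/
abbrev ftPred (F : EtModW.Mod Λ X) : SPred X :=
  fun _ g => EtModW.IsFTLocConst Λ ((EtModW.pull Λ g).obj F)

theorem ftPred_comp {T : Scheme.{u}} (F : EtModW.Mod Λ Y) (f : X ⟶ Y) (g : T ⟶ X) :
    ftPred ((EtModW.pull Λ f).obj F) g ↔ ftPred F (g ≫ f) :=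
  ⟨fun h => isFT_of_iso ((pullCompMod g f).app F).symm h, fun h => isFT_of_iso ((pullCompMod g f).app F) h⟩

theorem stable_ftPred (F : EtModW.Mod Λ X) : Stable (ftPred F) := fun _ _ h g hg =>
  (ftPred_comp F g h).1 (LocConst.isFTLocConst_pull h _ hg)

theorem isConstructibleMod_iff (F : EtModW.Mod Λ X) : EtModW.IsConstructible Λ F ↔ Loc X (ftPred F) :=
  forall₂_congr fun U _ => adapted_iff (P := ftPred F) U

theorem isConstructibleMod_pull (f : X ⟶ Y) {F : EtModW.Mod Λ Y} (hF : EtModW.IsConstructible Λ F) :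
    EtModW.IsConstructible Λ ((EtModW.pull Λ f).obj F) := by
  rw [isConstructibleMod_iff] at hF ⊢
  exact (hF.pullback (stable_ftPred F) f).mono fun T g hg => (ftPred_comp F f g).2 hg

theorem isConstructibleMod_of_iso {F G : EtModW.Mod Λ X} (e : F ≅ G) (h : EtModW.IsConstructible Λ F) :
    EtModW.IsConstructible Λ G := by
  rw [isConstructibleMod_iff] at h ⊢
  exact h.mono fun T g hg => isFT_of_iso ((EtModW.pull Λ g).mapIso e) hg

variable [IsNoetherianRing Λ]

theorem isConstructibleMod_kernel_cokernel {F G : EtModW.Mod Λ X} (φ : F ⟶ G) (hF : EtModW.IsConstructible Λ F)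
    (hG : EtModW.IsConstructible Λ G) :
    EtModW.IsConstructible Λ (kernel φ) ∧ EtModW.IsConstructible Λ (cokernel φ) := by
  rw [isConstructibleMod_iff] at hF hG
  have h := Loc.and (stable_ftPred F) (stable_ftPred G) hF hG
  constructor
  · rw [isConstructibleMod_iff]
    refine h.mono fun T g hg => ?_
    haveI := preservesFiniteLimits_pullMod (Λ := Λ) g
    exact isFT_of_iso (PreservesKernel.iso (EtModW.pull Λ g) φ).symm
      (LocConst.isFTLocConst_kernel_cokernel _ hg.1 hg.2).1
  · rw [isConstructibleMod_iff]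
    refine h.mono fun T g hg => ?_
    exact isFT_of_iso (PreservesCokernel.iso (EtModW.pull Λ g) φ).symm
      (LocConst.isFTLocConst_kernel_cokernel _ hg.1 hg.2).2

theorem isConstructibleMod_extension {S : ShortComplex (EtModW.Mod Λ X)} (hS : S.ShortExact)
    (h1 : EtModW.IsConstructible Λ S.X₁) (h3 : EtModW.IsConstructible Λ S.X₃) : EtModW.IsConstructible Λ S.X₂ := by
  rw [isConstructibleMod_iff] at h1 h3
  have h := Loc.and (stable_ftPred S.X₁) (stable_ftPred S.X₃) h1 h3
  rw [isConstructibleMod_iff]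
  refine h.mono fun T g hg => ?_
  haveI := preservesFiniteLimits_pullMod (Λ := Λ) g
  haveI := LocConst.isClosedUnderExtensions (Λ := Λ) (X := T)
  exact ObjectProperty.prop_X₂_of_shortExact (fun F : EtModW.Mod Λ T => EtModW.IsFTLocConst Λ F)
    (hS.map_of_exact (EtModW.pull Λ g)) hg.1 hg.2

end Groth.L28.Strata
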