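import Mathlib.AlgebraicGeometry.IdealSheaf.Subscheme
import Mathlib.AlgebraicGeometry.Morphisms.Immersion
import Mathlib.AlgebraicGeometry.Morphisms.QuasiSeparated
import Mathlib.AlgebraicGeometry.Morphisms.FinitePresentation
import Mathlib.AlgebraicGeometry.PullbackCarrier
import Mathlib.Topology.Constructible

/-!
Constructible subsets of quasi-compact quasi-separated schemes and finite stratifications by immersions.
-/

set_option autoImplicit false

universe u

open CategoryTheory CategoryTheory.Limits AlgebraicGeometry TopologicalSpace Topology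

namespace Groth.L28.Strata

variable {X : Scheme.{u}}

theorem isBasis_compactOpens (X : Scheme.{u}) :
    IsTopologicalBasis (Set.range fun W : {W : X.Opens // IsCompact (W : Set X)} => ((W.1 : X.Opens) : Set X)) := by
  refine isTopologicalBasis_of_isOpen_of_nhds (by rintro _ ⟨W, rfl⟩; exact W.1.2) fun a U ha hU => ?_
  obtain ⟨_, ⟨V, hV, rfl⟩, haV, hVU⟩ := X.isBasis_affineOpens.exists_subset_of_mem_open ha hU
  exact ⟨V, ⟨⟨V, hV.isCompact⟩, rfl⟩, haV, hVU⟩

instance (X : Scheme.{u}) : Nonempty {W : X.Opens // IsCompact (W : Set X)} := ⟨⟨⊥, by simp⟩⟩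

theorem isCompact_of_isConstructible [CompactSpace X] [QuasiSeparatedSpace X] {s : Set X}
    (hs : IsConstructible s) : IsCompact s := by
  induction s, hs using IsConstructible.induction_of_isTopologicalBasis
      (b := fun W : {W : X.Opens // IsCompact (W : Set X)} => ((W.1 : X.Opens) : Set X)) with
  | basis => exact isBasis_compactOpens X
  | isCompact_basis W => exact W.2
  | sdiff i s hs => exact IsCompact.inter_right i.2 (isOpen_biUnion fun j _ => j.1.2).isClosed_compl
  | union s hs t ht h1 h2 => exact h1.union h2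

/-- a compact subscheme of a quasi-separated scheme with constructible image has a constructible image map -/
theorem isConstructible_image [CompactSpace X] [QuasiSeparatedSpace X] {T : Scheme.{u}} (g : T ⟶ X)
    [IsPreimmersion g] (hg : IsConstructible (Set.range g)) {s : Set T} (hs : IsConstructible s) :
    IsConstructible (g '' s) := by
  haveI : CompactSpace T := ⟨g.isEmbedding.isCompact_iff.2 (by
    rw [Set.image_univ]; exact isCompact_of_isConstructible hg)⟩
  induction hs using IsConstructible.empty_union_induction with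
  | open_retrocompact O hO hOc =>
    obtain ⟨W, hW, rfl⟩ := g.isEmbedding.isInducing.isOpen_iff.1 hO
    obtain ⟨t, hcov⟩ := (hOc.isCompact.image g.continuous).elim_finite_subcover
      (fun V : {V : X.Opens // IsCompact (V : Set X) ∧ (V : Set X) ⊆ W} => ((V.1 : X.Opens) : Set X))
      (fun V => V.1.2) (fun x hx => by
        obtain ⟨_, ⟨V, rfl⟩, h1, h2⟩ := (isBasis_compactOpens X).exists_subset_of_mem_open
          (Set.image_preimage_subset _ _ hx) hW
        exact Set.mem_iUnion.2 ⟨⟨V.1, V.2, h2⟩, h1⟩) 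
    have e : g '' (g ⁻¹' W) = (⋃ V ∈ t, ((V.1 : X.Opens) : Set X)) ∩ Set.range g := by
      refine Set.Subset.antisymm (Set.subset_inter hcov (Set.image_subset_range _ _)) ?_
      rw [Set.image_preimage_eq_inter_range]
      exact Set.inter_subset_inter_left _ (Set.iUnion₂_subset fun V _ => V.2.2)
    rw [e]
    exact (IsConstructible.biUnion t.finite_toSet fun V _ => V.2.1.isConstructible V.1.2).inter hg
  | union s hs t ht h1 h2 => rw [Set.image_union]; exact h1.union h2
  | compl s hs h =>
    rw [← Set.range_sdiff_image g.isEmbedding.injective]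
    exact hg.sdiff h

theorem isConstructible_image_ι [QuasiSeparatedSpace X] (U : X.Opens) (hU : IsCompact (U : Set X))
    {s : Set U} (hs : IsConstructible (X := (U : Scheme.{u})) s) : IsConstructible (U.ι '' s) := by
  refine hs.image_of_isOpenEmbedding U.ι.isOpenEmbedding ?_
  rw [Scheme.Opens.range_ι]
  exact hU.isRetrocompact U.2

/-- a constructible set is determined by finitely many quasi-compact opens -/
theorem exists_opens_determining {s : Set X} (hs : IsConstructible s) :
    ∃ S : Finset X.Opens, (∀ O ∈ S, IsRetrocompact (O : Set X)) ∧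
      ∀ x y : X, (∀ O ∈ S, x ∈ O ↔ y ∈ O) → (x ∈ s ↔ y ∈ s) := by
  classical
  induction hs using IsConstructible.empty_union_induction with
  | open_retrocompact U hU hUc =>
    exact ⟨{⟨U, hU⟩}, by simpa using hUc, fun x y h => h ⟨U, hU⟩ (Finset.mem_singleton_self _)⟩
  | union s hs t ht h1 h2 =>
    obtain ⟨S, hS, hS'⟩ := h1
    obtain ⟨T, hT, hT'⟩ := h2
    refine ⟨S ∪ T, fun O hO => (Finset.mem_union.1 hO).elim (hS O) (hT O), fun x y h => ?_⟩
    exact or_congr (hS' x y fun O hO => h O (Finset.mem_union_left _ hO))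
      (hT' x y fun O hO => h O (Finset.mem_union_right _ hO))
  | compl s hs h =>
    obtain ⟨S, hS, hS'⟩ := h
    exact ⟨S, hS, fun x y h => not_congr (hS' x y h)⟩

/-- an intersection of an open and a closed subset is the image of an immersion -/
theorem exists_immersion (Q : X.Opens) (Z : Closeds X) :
    ∃ (L : Scheme.{u}) (g : L ⟶ X), IsImmersion g ∧ Set.range g = (Q : Set X) ∩ Z := by
  let Z' : Closeds (Q : Scheme.{u}) := ⟨Q.ι ⁻¹' Z, Z.isClosed.preimage Q.ι.continuous⟩
  refine ⟨(Scheme.IdealSheafData.vanishingIdeal Z').subscheme,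
    (Scheme.IdealSheafData.vanishingIdeal Z').subschemeι ≫ Q.ι, inferInstance, ?_⟩
  rw [Scheme.Hom.comp_base, TopCat.coe_comp, Set.range_comp, Scheme.IdealSheafData.range_subschemeι,
    Scheme.IdealSheafData.coe_support_vanishingIdeal]
  show Q.ι '' (Q.ι ⁻¹' (Z : Set X)) = _
  rw [Set.image_preimage_eq_range_inter, Scheme.Opens.range_ι]

/-- a predicate on schemes over `X` -/
abbrev SPred (X : Scheme.{u}) := ∀ ⦃T : Scheme.{u}⦄, (T ⟶ X) → Prop

/-- stability under composition -/
def Stable (P : SPred X) : Prop := ∀ ⦃T T' : Scheme.{u}⦄ (h : T' ⟶ T) (g : T ⟶ X), P g → P (h ≫ g)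

/-- a finite partition into constructible strata satisfying `P` -/
def Strat (X : Scheme.{u}) (P : SPred X) : Prop :=
  ∃ (n : ℕ) (T : Fin n → Scheme.{u}) (g : ∀ i, T i ⟶ X),
    (∀ i, IsImmersion (g i)) ∧ (∀ i, IsConstructible (Set.range (g i))) ∧
    Pairwise (fun i j => Disjoint (Set.range (g i)) (Set.range (g j))) ∧
    (⋃ i, Set.range (g i)) = Set.univ ∧ ∀ i, P (g i)


/-- a pointwise family of constructible pieces coming from finitely many ones can be refined to a partition -/
theorem strat_of_pieces {P : SPred X} (hP : Stable P) {ι : Type*} [Finite ι] {T : ι → Scheme.{u}}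
    (g : ∀ i, T i ⟶ X) (hg : ∀ i, IsImmersion (g i)) (hc : ∀ i, IsConstructible (Set.range (g i)))
    (hcov : (⋃ i, Set.range (g i)) = Set.univ) (h : ∀ i, P (g i)) : Strat X P := by
  classical
  cases nonempty_fintype ι
  choose S hSr hS using fun i => exists_opens_determining (hc i)
  let O : Finset X.Opens := Finset.univ.biUnion S
  have hO : ∀ o ∈ O, IsRetrocompact (o : Set X) := fun o ho => by
    obtain ⟨i, -, hi⟩ := Finset.mem_biUnion.1 ho; exact hSr i o hi
  let atom : Finset X.Opens → Set X := fun σ => {x | ∀ o ∈ O, (x ∈ o ↔ o ∈ σ)}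
  let J := {σ : Finset X.Opens // σ ∈ O.powerset ∧ (atom σ).Nonempty}
  haveI : Finite J := Finite.of_injective (fun σ : J => (⟨σ.1, σ.2.1⟩ : {σ // σ ∈ O.powerset}))
    fun a b hab => Subtype.ext (congrArg (fun t => t.1) hab)
  cases nonempty_fintype J
  have key : ∀ σ : J, ∃ (L : Scheme.{u}) (l : L ⟶ X), IsImmersion l ∧ Set.range l = atom σ.1 ∧
      IsConstructible (Set.range l) ∧ P l := by
    rintro ⟨σ, hσ, x, hx⟩
    have hσO : σ ⊆ O := Finset.mem_powerset.1 hσ
    obtain ⟨i, hi⟩ := Set.mem_iUnion.1 (hcov.symm ▸ Set.mem_univ x : x ∈ ⋃ i, Set.range (g i))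
    let Q : X.Opens := σ.inf id
    let V : X.Opens := (O \ σ).sup id
    obtain ⟨L, l, hl, hlr⟩ := exists_immersion Q ⟨(V : Set X)ᶜ, V.2.isClosed_compl⟩
    have hat : (Q : Set X) ∩ (V : Set X)ᶜ = atom σ := by
      ext y
      have h1 : y ∈ Q ↔ ∀ o ∈ σ, y ∈ o := by
        rw [← SetLike.mem_coe]; simp [Q, TopologicalSpace.Opens.coe_finset_inf]
      have h2 : y ∈ V ↔ ∃ o ∈ O \ σ, y ∈ o := by
        rw [← SetLike.mem_coe]; simp [V, TopologicalSpace.Opens.coe_finset_sup]
      simp only [Set.mem_inter_iff, SetLike.mem_coe, Set.mem_compl_iff, h1, h2, atom, Set.mem_setOf_eq,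
        Finset.mem_sdiff]
      constructor
      · rintro ⟨h3, h4⟩ o ho
        exact ⟨fun hy => by_contra fun hn => h4 ⟨o, ⟨ho, hn⟩, hy⟩, h3 o⟩
      · intro h3
        exact ⟨fun o ho => (h3 o (hσO ho)).2 ho, fun ⟨o, ⟨ho, hn⟩, hy⟩ => hn ((h3 o ho).1 hy)⟩
    have hlr' : Set.range l = atom σ := hlr.trans hat
    have hsub : atom σ ⊆ Set.range (g i) := fun y hy => (hS i x y fun o ho => by
      have := Finset.mem_biUnion.2 ⟨i, Finset.mem_univ _, ho⟩
      exact (hx o this).trans (hy o this).symm).1 hi
    haveI := hg i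
    refine ⟨pullback l (g i), pullback.fst l (g i) ≫ l, inferInstance, ?_, ?_, ?_⟩
    · rw [Scheme.Hom.comp_base, TopCat.coe_comp, Set.range_comp, Scheme.Pullback.range_fst,
        Set.image_preimage_eq_range_inter, hlr']
      exact Set.inter_eq_left.2 hsub
    · rw [Scheme.Hom.comp_base, TopCat.coe_comp, Set.range_comp, Scheme.Pullback.range_fst,
        Set.image_preimage_eq_range_inter, hlr, Set.inter_eq_left.2 (hat.symm ▸ hsub)]
      refine IsConstructible.inter ?_ (IsConstructible.compl ?_)
      · have : (Q : Set X) = ⋂ o ∈ (σ : Set X.Opens), (o : Set X) := by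
          simp [Q, TopologicalSpace.Opens.coe_finset_inf, Finset.inf_set_eq_iInter]
        rw [this]
        exact IsConstructible.biInter σ.finite_toSet fun o ho => (hO o (hσO ho)).isConstructible o.2
      · have : (V : Set X) = ⋃ o ∈ ((O \ σ : Finset _) : Set X.Opens), (o : Set X) := by
          simp [V, TopologicalSpace.Opens.coe_finset_sup, Finset.sup_set_eq_biUnion]
        rw [this]
        exact IsConstructible.biUnion (Finset.finite_toSet _) fun o ho =>
          (hO o (Finset.mem_sdiff.1 ho).1).isConstructible o.2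
    · rw [pullback.condition]; exact hP _ _ (h i)
  choose L l hl hlr hlc hlP using key
  refine ⟨Fintype.card J, fun k => L ((Fintype.equivFin J).symm k), fun k => l _, fun k => hl _,
    fun k => hlc _, ?_, ?_, fun k => hlP _⟩
  · intro a b hab
    show Disjoint (Set.range (l _)) (Set.range (l _))
    rw [hlr, hlr, Set.disjoint_left]
    intro y hy hy'
    apply hab
    apply (Fintype.equivFin J).symm.injective
    apply Subtype.ext
    ext o
    by_cases ho : o ∈ O
    · exact (hy o ho).symm.trans (hy' o ho)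
    · exact iff_of_false (fun hc => ho (Finset.mem_powerset.1 ((Fintype.equivFin J).symm a).2.1 hc))
        (fun hc => ho (Finset.mem_powerset.1 ((Fintype.equivFin J).symm b).2.1 hc))
  · refine Set.eq_univ_of_forall fun y => Set.mem_iUnion.2 ?_
    let σ : J := ⟨O.filter (fun o => y ∈ o), Finset.mem_powerset.2 (Finset.filter_subset _ _),
      y, fun o ho => ⟨fun h => Finset.mem_filter.2 ⟨ho, h⟩, fun h => (Finset.mem_filter.1 h).2⟩⟩
    refine ⟨Fintype.equivFin J σ, ?_⟩
    show y ∈ Set.range (l ((Fintype.equivFin J).symm (Fintype.equivFin J σ)))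
    rw [Equiv.symm_apply_apply, hlr]
    exact fun o ho => ⟨fun h => Finset.mem_filter.2 ⟨ho, h⟩, fun h => (Finset.mem_filter.1 h).2⟩

end Groth.L28.Strata
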