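import Groth.Agent.L28.Strata.Serre
import Groth.Agent.L28.Pts.Constr
import Groth.Agent.L27.EtSite.Pull
import Groth.Agent.L27.EtSite.Points
import Mathlib.AlgebraicGeometry.Morphisms.UniversallyOpen

/-!
The locus of vanishing of the stalks of a constructible sheaf is constructible.
-/

set_option autoImplicit false

universe u

open CategoryTheory CategoryTheory.Limits AlgebraicGeometry Opposite Topology

set_option backward.isDefEq.respectTransparency.types false

namespace Groth.L28.Locus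

open GrothendieckTopology

theorem stalk_trivialised {T : Scheme.{u}} {H : EtCoh.Ab T} {U : T.Etale} {M : AddCommGrpCat.{u + 1}}
    (e : EtCoh.restr H U ≅ (constantSheaf (T.smallEtaleTopology.over U) AddCommGrpCat.{u + 1}).obj M)
    {Ω : Type u} [Field Ω] [IsSepClosed Ω] (ξ : Spec (CommRingCat.of Ω) ⟶ T)
    (y : (Scheme.pointSmallEtale ξ).fiber.obj U) : Nonempty ((EtCoh.stalk ξ).obj H ≅ M) :=
  ⟨((Pts.sheafFiberOverIso (A := AddCommGrpCat.{u + 1}) (Scheme.pointSmallEtale ξ) y).app H).symm ≪≫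
    ((Scheme.pointSmallEtale ξ).over y).sheafFiber.mapIso e ≪≫
    Pts.sheafFiberConstIso _ (Point.W_isInvertedBy_presheafFiber' _) _⟩

theorem isClopen_zero_stalks {T : Scheme.{u}} {H : EtCoh.Ab T} (hH : EtCoh.IsFiniteLocallyConstant H) :
    IsClopen {t : T | ∀ (Ω : Type u) [Field Ω] [IsSepClosed Ω] (ξ : Spec (CommRingCat.of Ω) ⟶ T),
      ξ.base default = t → Subsingleton ((EtCoh.stalk ξ).obj H)} := by
  obtain ⟨ι, U, hU, h⟩ := hH
  choose M instM hfin e using h
  have key : ∀ i, ∀ t ∈ Set.range (U i).hom, (∀ (Ω : Type u) [Field Ω] [IsSepClosed Ω]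
      (ξ : Spec (CommRingCat.of Ω) ⟶ T), ξ.base default = t → Subsingleton ((EtCoh.stalk ξ).obj H)) ↔
      Subsingleton (ULift.{u + 1} (M i)) := by
    rintro i t ⟨z, hz⟩
    constructor
    · intro h
      obtain ⟨Ω, _, _, ξ, hξ⟩ := Groth.L27.EtSite.exists_geometric_point t
      obtain ⟨y, -⟩ := Groth.L27.EtSite.exists_fiber ξ (U i) z (hz.trans hξ.symm)
      obtain ⟨e'⟩ := stalk_trivialised (e i).some ξ y
      haveI := h Ω ξ hξ
      exact e'.addCommGroupIsoToAddEquiv.toEquiv.symm.subsingleton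
    · intro h Ω _ _ ξ hξ
      obtain ⟨y, -⟩ := Groth.L27.EtSite.exists_fiber ξ (U i) z (hz.trans hξ.symm)
      obtain ⟨e'⟩ := stalk_trivialised (e i).some ξ y
      exact e'.addCommGroupIsoToAddEquiv.toEquiv.subsingleton
  have hopen : ∀ i, IsOpen (Set.range (U i).hom) := fun i => by
    haveI : AlgebraicGeometry.Etale (U i).hom := (U i).prop
    exact (U i).hom.isOpenMap.isOpen_range
  constructor
  · refine isOpen_compl_iff.1 (isOpen_iff_forall_mem_open.2 fun t ht => ?_)
    obtain ⟨i, z, hz⟩ := hU t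
    exact ⟨_, fun s hs hs' => ht ((key i t ⟨z, hz⟩).2 ((key i s hs).1 hs')), hopen i, ⟨z, hz⟩⟩
  · refine isOpen_iff_forall_mem_open.2 fun t ht => ?_
    obtain ⟨i, z, hz⟩ := hU t
    exact ⟨_, fun s hs => (key i s hs).2 ((key i t ⟨z, hz⟩).1 ht), hopen i, ⟨z, hz⟩⟩

theorem isConstructible_zero_stalks {X : Scheme.{u}} [CompactSpace X] [QuasiSeparatedSpace X] {H : EtCoh.Ab X}
    (hH : EtPBC.IsConstructible H) :
    Topology.IsConstructible {x : X | ∀ (Ω : Type u) [Field Ω] [IsSepClosed Ω] (ξ : Spec (CommRingCat.of Ω) ⟶ X),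
      ξ.base default = x → Subsingleton ((EtCoh.stalk ξ).obj H)} := by
  rw [Strata.isConstructible_iff, Strata.loc_iff_strat (Strata.stable_lcPred H)] at hH
  obtain ⟨n, T, g, h1, h2, -, h4, h5⟩ := hH
  let A : ∀ i, Set (T i) := fun i => {t | ∀ (Ω : Type u) [Field Ω] [IsSepClosed Ω] (ξ : Spec (CommRingCat.of Ω) ⟶ T i),
      ξ.base default = t → Subsingleton ((EtCoh.stalk ξ).obj ((EtCoh.pull (g i)).obj H))}
  have hA : ∀ i, Topology.IsConstructible (g i '' A i) := by
    intro i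
    haveI := h1 i
    haveI : CompactSpace (T i) := ⟨(g i).isEmbedding.isCompact_iff.2 (by
      rw [Set.image_univ]; exact Strata.isCompact_of_isConstructible (h2 i))⟩
    haveI : QuasiSeparatedSpace (T i) := quasiSeparatedSpace_of_quasiSeparated (g i)
    have hcl : IsClopen (A i) := isClopen_zero_stalks (h5 i)
    refine Strata.isConstructible_image (g i) (h2 i) ?_
    exact (hcl.1.isCompact.isConstructible hcl.2)
  refine cast (congrArg Topology.IsConstructible ?_) (IsConstructible.iUnion hA)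
  ext x
  constructor
  · intro hx Ω _ _ ξ hξ
    obtain ⟨i, t, ht, rfl⟩ := Set.mem_iUnion.1 hx
    haveI := h1 i
    obtain ⟨ξ', rfl⟩ := EtModStalk.exists_lift (g i) ξ ⟨t, hξ.symm⟩
    haveI : Subsingleton ((EtCoh.pull (g i) ⋙ EtCoh.stalk ξ').obj H) := ht Ω ξ' ((g i).isEmbedding.injective hξ)
    exact ((Groth.L27.EtSite.stalkPullIso (g i) ξ').app H).addCommGroupIsoToAddEquiv.toEquiv.symm.subsingleton
  · intro hx
    obtain ⟨i, t, rfl⟩ := Set.mem_iUnion.1 (h4.symm ▸ Set.mem_univ x : x ∈ ⋃ i, Set.range (g i))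
    refine Set.mem_iUnion.2 ⟨i, t, fun Ω _ _ ξ hξ => ?_, rfl⟩
    haveI := hx Ω (ξ ≫ g i) (by rw [← hξ]; rfl)
    exact ((Groth.L27.EtSite.stalkPullIso (g i) ξ).app H).addCommGroupIsoToAddEquiv.toEquiv.subsingleton

end Groth.L28.Locus
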